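import Groth.Prelude.Def_W4c5flasquetoriphsGLat
import Mathlib.RepresentationTheory.Basic
import Mathlib.LinearAlgebra.Dual.Lemmas
import Mathlib.LinearAlgebra.FreeModule.PID
import Mathlib.GroupTheory.GroupAction.Quotient
import Mathlib.Algebra.Module.CharacterModule
import Mathlib.RingTheory.Finiteness.Basic
import Mathlib.RingTheory.Noetherian.Basic

/-! Flasque and coflasque resolutions of lattices over a finite group. -/

noncomputable section

set_option linter.style.haveILetI false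

namespace Groth.L28.GLat

open Module

variable {G : Type} [Group G]

/-- The permutation representation on functions on a `G`-set. -/
def permRep (G : Type) [Group G] (S : Type) [MulAction G S] : Representation ℤ G (S → ℤ) where
  toFun g := LinearMap.funLeft ℤ ℤ fun s => g⁻¹ • s
  map_one' := LinearMap.ext fun f => funext fun s => by simp
  map_mul' g h := LinearMap.ext fun f => funext fun s => by simp [mul_smul]

theorem permRep_apply {S : Type} [MulAction G S] (g : G) (f : S → ℤ) (s : S) :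
    permRep G S g f s = f (g⁻¹ • s) := rfl

theorem isPermutation_permRep (S : Type) [MulAction G S] [Finite S] : GLat.IsPermutation (permRep G S) := by
  classical
  refine ⟨S, Pi.basisFun ℤ S, fun g i => ⟨g • i, funext fun s => ?_⟩⟩
  simp [permRep_apply, Pi.single_apply, inv_smul_eq_iff]

theorem isCoflasque_permRep [Finite G] (S : Type) [MulAction G S] [Finite S] :
    GLat.IsCoflasque (permRep G S) := by
  classical
  intro H f hf
  letI := Fintype.ofFinite H
  let F : S → ℤ := fun s => ∑ b : H, f b s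
  have hF : ∀ (a : H) (s : S), F s = (Fintype.card H : ℤ) * f a s + F (a⁻¹ • s) := fun a s => by
    have h : F s = ∑ b : H, f (a * b) s := (Equiv.sum_comp (Equiv.mulLeft a) fun b => f b s).symm
    rw [h]
    simp only [hf, Pi.add_apply, permRep_apply, Finset.sum_add_distrib, Finset.sum_const, Finset.card_univ,
      nsmul_eq_mul]
    rfl
  let rep : S → S := fun s => (Quotient.mk (MulAction.orbitRel H S) s).out
  have hrep : ∀ (a : H) (s : S), rep (a • s) = rep s := fun a s =>
    congrArg Quotient.out (Quotient.sound (s := MulAction.orbitRel H S) ⟨a, rfl⟩)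
  have hk : ∀ s, ∃ k : ℤ, (Fintype.card H : ℤ) * k = F (rep s) - F s := fun s => by
    obtain ⟨a, ha⟩ := Quotient.exact (Quotient.out_eq (Quotient.mk (MulAction.orbitRel H S) s))
    have ha : a • s = rep s := ha
    refine ⟨f a (rep s), ?_⟩
    have := hF a (rep s)
    rw [← ha, inv_smul_smul, ha] at this
    linarith
  choose m hm using hk
  refine ⟨m, fun a => funext fun s => ?_⟩
  refine mul_left_cancel₀ (b := f a s) (Nat.cast_ne_zero.2 (Fintype.card_ne_zero (α := H))) ?_
  have h1 := hm (a⁻¹ • s)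
  rw [hrep] at h1
  show _ = (Fintype.card H : ℤ) * (m (a⁻¹ • s) - m s)
  rw [mul_sub, h1, hm s, hF a s]
  ring

section Cover

variable [Finite G] {A : Type} [AddCommGroup A] [Module.Finite ℤ A]

/-- A permutation cover which is surjective on the invariants of every subgroup. -/
theorem exists_cover (ρ : Representation ℤ G A) :
    ∃ (S : Type) (_ : MulAction G S) (_ : Finite S) (π : (S → ℤ) →ₗ[ℤ] A),
      GLat.IsEquivariant (permRep G S) ρ π ∧ Function.Surjective π ∧
      ∀ (H : Subgroup G) (a : A), (∀ h ∈ H, ρ h a = a) →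
        ∃ p : S → ℤ, (∀ h ∈ H, permRep G S h p = p) ∧ π p = a := by
  classical
  let inv : Subgroup G → Submodule ℤ A := fun H => ⨅ h : H, LinearMap.eqLocus (ρ h) LinearMap.id
  have hinv : ∀ H a, a ∈ inv H ↔ ∀ h : H, ρ h a = a := fun H a => by
    simp only [inv, Submodule.mem_iInf]; rfl
  have hfg : ∀ H, ∃ t : Finset A, Submodule.span ℤ (t : Set A) = inv H := fun H => IsNoetherian.noetherian (inv H)
  choose t ht using hfg
  haveI : Finite (Subgroup G) := Finite.of_injective _ SetLike.coe_injective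
  let S := Σ i : Σ H : Subgroup G, {a : A // a ∈ t H}, G ⧸ i.1
  letI : MulAction G S :=
    { smul := fun g x => ⟨x.1, g • x.2⟩
      one_smul := fun x => Sigma.ext rfl (heq_of_eq (one_smul G x.2))
      mul_smul := fun g h x => Sigma.ext rfl (heq_of_eq (mul_smul g h x.2)) }
  letI := Fintype.ofFinite G
  letI : Fintype S := Fintype.ofFinite S
  have hta : ∀ H, ∀ a ∈ t H, ∀ h : H, ρ h a = a := fun H a ha =>
    (hinv H a).1 (ht H ▸ Submodule.subset_span ha)
  let val : S → A := fun x => Quotient.liftOn' x.2 (fun g => ρ g x.1.2.1) fun g g' hgg' => by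
    have h := hta x.1.1 _ x.1.2.2 ⟨_, QuotientGroup.leftRel_apply.1 hgg'⟩
    calc ρ g x.1.2.1 = ρ g (ρ (g⁻¹ * g') x.1.2.1) := by rw [h]
      _ = ρ g' x.1.2.1 := by rw [← Module.End.mul_apply, ← map_mul, mul_inv_cancel_left]
  have hval : ∀ (g : G) (x : S), val (g • x) = ρ g (val x) := by
    rintro g ⟨i, q⟩
    induction q using QuotientGroup.induction_on with
    | H z => show ρ (g * z) i.2.1 = ρ g (ρ z i.2.1); rw [map_mul]; rfl
  let π := Fintype.linearCombination ℤ val
  have hπ : GLat.IsEquivariant (permRep G S) ρ π := fun g f => by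
    rw [Fintype.linearCombination_apply, Fintype.linearCombination_apply, map_sum,
      ← Equiv.sum_comp (MulAction.toPerm g) fun x => permRep G S g f x • val x]
    refine Finset.sum_congr rfl fun x _ => ?_
    rw [MulAction.toPerm_apply, permRep_apply, inv_smul_smul, hval, map_zsmul]
  have hlift : ∀ (H : Subgroup G) (a : A), (∀ h ∈ H, ρ h a = a) →
      ∃ p : S → ℤ, (∀ h ∈ H, permRep G S h p = p) ∧ π p = a := by
    intro H a ha
    let PH : Submodule ℤ (S → ℤ) := ⨅ h : H, LinearMap.eqLocus (permRep G S h) LinearMap.id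
    have hPH : ∀ p, p ∈ PH ↔ ∀ h : H, permRep G S h p = p := fun p => by
      simp only [PH, Submodule.mem_iInf]; rfl
    have : inv H ≤ PH.map π := by
      rw [← ht H, Submodule.span_le]
      intro b hb
      let x : S := ⟨⟨H, b, hb⟩, ((1 : G) : G ⧸ H)⟩
      refine ⟨Pi.single x 1, (hPH _).2 fun h => funext fun y => ?_, ?_⟩
      · have hx : (h : G) • x = x := Sigma.ext rfl (heq_of_eq (QuotientGroup.eq.2 (by simp)))
        simp only [permRep_apply, Pi.single_apply, inv_smul_eq_iff, hx]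
      · rw [Fintype.linearCombination_apply_single, one_smul]
        exact congrFun (congrArg DFunLike.coe (map_one ρ)) b
    obtain ⟨p, hp, hpa⟩ := this ((hinv H a).2 fun h => ha h h.2)
    exact ⟨p, fun h hh => (hPH p).1 hp ⟨h, hh⟩, hpa⟩
  refine ⟨S, inferInstance, inferInstance, π, hπ, fun a => ?_, hlift⟩
  obtain ⟨p, -, hp⟩ := hlift ⊥ a fun h hh => by
    rw [Subgroup.mem_bot.1 hh, map_one]; rfl
  exact ⟨p, hp⟩

end Cover

/-- The restriction of a representation to the kernel of an equivariant map. -/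
def kerRep {M N : Type} [AddCommGroup M] [AddCommGroup N] (σ : Representation ℤ G M)
    (τ : Representation ℤ G N) (f : M →ₗ[ℤ] N) (hf : GLat.IsEquivariant σ τ f) :
    Representation ℤ G (LinearMap.ker f) where
  toFun g := (σ g).restrict fun x hx => by rw [LinearMap.mem_ker] at hx ⊢; rw [hf, hx, map_zero]
  map_one' := LinearMap.ext fun x => Subtype.ext (by simp)
  map_mul' g h := LinearMap.ext fun x => Subtype.ext (by simp [LinearMap.restrict_apply])

theorem kerRep_coe {M N : Type} [AddCommGroup M] [AddCommGroup N] (σ : Representation ℤ G M)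
    (τ : Representation ℤ G N) (f : M →ₗ[ℤ] N) (hf : GLat.IsEquivariant σ τ f) (g : G) (x : LinearMap.ker f) :
    (kerRep σ τ f hf g x : M) = σ g x := rfl

theorem isCoflasque_kerRep {M N : Type} [AddCommGroup M] [AddCommGroup N] (σ : Representation ℤ G M)
    (τ : Representation ℤ G N) (f : M →ₗ[ℤ] N) (hf : GLat.IsEquivariant σ τ f) (hσ : GLat.IsCoflasque σ)
    (hlift : ∀ (H : Subgroup G) (a : N), (∀ h ∈ H, τ h a = a) → ∃ p, (∀ h ∈ H, σ h p = p) ∧ f p = a) :
    GLat.IsCoflasque (kerRep σ τ f hf) := by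
  intro H c hc
  obtain ⟨p, hp⟩ := hσ H (fun h => (c h : M)) fun a b => congrArg Subtype.val (hc a b)
  obtain ⟨p', hp', hpa⟩ := hlift H (f p) fun h hh => by
    have h1 := congrArg f (hp ⟨h, hh⟩)
    rw [LinearMap.mem_ker.1 (c ⟨h, hh⟩).2, map_sub, hf] at h1
    exact sub_eq_zero.1 h1.symm
  refine ⟨⟨p - p', by simp [hpa]⟩, fun a => Subtype.ext ?_⟩
  show (c a : M) = σ a (p - p') - (p - p')
  rw [hp a, map_sub, hp' a a.2]
  abel

/-- The dual of a coflasque lattice is flasque. -/
theorem isFlasque_dual [Finite G] {Q : Type} [AddCommGroup Q] [Module.Finite ℤ Q] [Module.Free ℤ Q]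
    (σ : Representation ℤ G Q) (hσ : GLat.IsCoflasque σ) : GLat.IsFlasque σ.dual := by
  classical
  intro H φ hN
  letI := Fintype.ofFinite H
  rw [finsum_eq_sum_of_fintype] at hN
  have hdual : ∀ (g : G) (ψ : Dual ℤ Q) (q : Q), σ.dual g ψ q = ψ (σ g⁻¹ q) := fun g ψ q => rfl
  let I : Submodule ℤ (Dual ℤ Q) := Submodule.span ℤ {x | ∃ (h : H) (y : Dual ℤ Q), x = σ.dual (h : G) y - y}
  let n : ℤ := Fintype.card H
  have hn : n ≠ 0 := Nat.cast_ne_zero.2 Fintype.card_ne_zero
  let Nm : Dual ℤ Q →ₗ[ℤ] Dual ℤ Q := ∑ h : H, σ.dual (h : G)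
  have hNφ : Nm φ = 0 := by simpa [Nm, LinearMap.sum_apply] using hN
  have hNI : I ≤ LinearMap.ker Nm := Submodule.span_le.2 (by
    rintro _ ⟨a, y, rfl⟩
    simp only [SetLike.mem_coe, LinearMap.mem_ker, map_sub, Nm, LinearMap.sum_apply, sub_eq_zero]
    refine (Finset.sum_congr rfl fun h _ => ?_).trans (Equiv.sum_comp (Equiv.mulRight a) fun h => σ.dual (h : G) y)
    rw [Equiv.coe_mulRight, Subgroup.coe_mul, map_mul]; rfl)
  -- it is enough to work modulo `n`
  suffices h : φ ∈ I ⊔ LinearMap.range (n • (LinearMap.id : Dual ℤ Q →ₗ[ℤ] Dual ℤ Q)) by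
    obtain ⟨i, hi, _, ⟨ψ, rfl⟩, rfl⟩ := Submodule.mem_sup.1 h
    refine I.add_mem hi ?_
    rw [map_add, LinearMap.mem_ker.1 (hNI hi), zero_add] at hNφ
    simp only [LinearMap.smul_apply, LinearMap.id_apply, map_zsmul, smul_eq_zero, hn, false_or] at hNφ ⊢
    have : n • ψ = - ∑ h : H, (σ.dual (h : G) ψ - ψ) := by
      rw [Finset.sum_sub_distrib, neg_sub, Finset.sum_const, Finset.card_univ]
      rw [show ∑ h : H, σ.dual (h : G) ψ = 0 by simpa [Nm, LinearMap.sum_apply] using hNφ, sub_zero]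
      exact natCast_zsmul _ _
    rw [this]
    exact I.neg_mem (Submodule.sum_mem _ fun h _ => Submodule.subset_span ⟨h, ψ, rfl⟩)
  by_contra hφ
  let J := I ⊔ LinearMap.range (n • (LinearMap.id : Dual ℤ Q →ₗ[ℤ] Dual ℤ Q))
  obtain ⟨χ₀, hχ₀⟩ := CharacterModule.exists_character_apply_ne_zero_of_ne_zero (a := J.mkQ φ)
    (by rwa [Submodule.mkQ_apply, Ne, Submodule.Quotient.mk_eq_zero])
  let χ : Dual ℤ Q →+ AddCircle (1 : ℚ) := AddMonoidHom.comp χ₀ J.mkQ.toAddMonoidHom
  have hχJ : ∀ ψ ∈ J, χ ψ = 0 := fun ψ hψ => by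
    show χ₀ (J.mkQ ψ) = 0
    rw [Submodule.mkQ_apply, (Submodule.Quotient.mk_eq_zero J).2 hψ, map_zero]
  let b := Module.Free.chooseBasis ℤ Q
  have hc : ∀ i, ∃ c : ℤ, χ (b.dualBasis i) = (((c : ℚ) / (n : ℚ) : ℚ) : AddCircle (1 : ℚ)) := fun i => by
    obtain ⟨r, hr⟩ := QuotientAddGroup.mk_surjective (χ (b.dualBasis i))
    have h0 : χ (n • b.dualBasis i) = 0 := hχJ _ (Submodule.mem_sup_right ⟨b.dualBasis i, rfl⟩)
    rw [map_zsmul, ← hr] at h0
    obtain ⟨c, hc⟩ := (AddCircle.coe_eq_zero_iff _).1 ((AddCircle.coe_zsmul _ ).trans h0)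
    refine ⟨c, hr.symm.trans (congrArg _ ?_)⟩
    rw [zsmul_one, zsmul_eq_mul] at hc
    rw [eq_div_iff (Int.cast_ne_zero.2 hn), hc]; ring
  choose c hc using hc
  let q : Q := ∑ i, c i • b i
  let χ' : Dual ℤ Q →+ AddCircle (1 : ℚ) :=
    (QuotientAddGroup.mk' _).comp ((AddMonoidHom.mulRight ((n : ℚ)⁻¹)).comp
      ((Int.castAddHom ℚ).comp (LinearMap.applyₗ q : Dual ℤ Q →ₗ[ℤ] ℤ).toAddMonoidHom))
  have hχ : ∀ ψ, χ ψ = χ' ψ := fun ψ => by
    have : χ.toIntLinearMap = χ'.toIntLinearMap := b.dualBasis.ext fun i => by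
      show χ (b.dualBasis i) = (((b.dualBasis i q : ℤ) : ℚ) * (n : ℚ)⁻¹ : ℚ)
      rw [hc, div_eq_mul_inv]
      congr 3
      simp [q, Finsupp.single_apply]
    exact LinearMap.congr_fun this ψ
  have hzero : ∀ ψ, χ ψ = 0 ↔ n ∣ ψ q := fun ψ => by
    rw [hχ]
    show (((ψ q : ℚ) * (n : ℚ)⁻¹ : ℚ) : AddCircle (1 : ℚ)) = 0 ↔ _
    rw [AddCircle.coe_eq_zero_iff]
    refine ⟨fun ⟨z, hz⟩ => ⟨z, ?_⟩, fun ⟨z, hz⟩ => ⟨z, ?_⟩⟩
    · rw [zsmul_one, eq_mul_inv_iff_mul_eq₀ (Int.cast_ne_zero.2 hn)] at hz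
      exact_mod_cast hz.symm.trans (mul_comm _ _)
    · rw [zsmul_one, hz, eq_mul_inv_iff_mul_eq₀ (Int.cast_ne_zero.2 hn)]
      push_cast; ring
  have hf : ∀ h : H, ∃ z : Q, σ h q - q = n • z := fun h => by
    have : ∀ i, n ∣ b.coord i (σ h q - q) := fun i => by
      have h1 := (hzero _).1 (hχJ _ (Submodule.mem_sup_left
        (Submodule.subset_span ⟨h⁻¹, b.coord i, rfl⟩)))
      rw [LinearMap.sub_apply, hdual, Subgroup.coe_inv, inv_inv] at h1
      rwa [map_sub]
    choose k hk using this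
    refine ⟨∑ i, k i • b i, ?_⟩
    conv_lhs => rw [← b.sum_repr (σ h q - q)]
    simp only [Finset.smul_sum, smul_smul]
    exact Finset.sum_congr rfl fun i _ => by rw [← b.coord_apply, hk]
  choose f hf using hf
  obtain ⟨m, hm⟩ := hσ H f fun a a' => by
    refine smul_right_injective Q hn ?_
    show n • f (a * a') = n • (f a + σ a (f a'))
    rw [smul_add, ← map_zsmul, ← hf, ← hf, ← hf, map_sub, Subgroup.coe_mul, map_mul, Module.End.mul_apply]
    abel
  let x := q - n • m
  have hx : ∀ h : H, σ h x = x := fun h => by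
    rw [← sub_eq_zero]
    have h1 := hf h
    rw [hm h, smul_sub, ← map_zsmul] at h1
    calc σ h (q - n • m) - (q - n • m) = (σ h q - q) - (σ h (n • m) - n • m) := by rw [map_sub]; abel
      _ = 0 := by rw [h1, sub_self]
  have hφx : φ x = 0 := by
    have h1 := LinearMap.congr_fun hN x
    simp only [LinearMap.sum_apply, hdual, LinearMap.zero_apply] at h1
    rw [Finset.sum_congr rfl (g := fun _ => φ x) fun h _ => by rw [← Subgroup.coe_inv, hx], Finset.sum_const,
      nsmul_eq_mul] at h1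
    exact (mul_eq_zero.1 h1).resolve_left hn
  refine hχ₀ ((hzero φ).2 ⟨φ m, ?_⟩)
  rw [show q = x + n • m by simp [x], map_add, hφx, map_zsmul, zero_add, smul_eq_mul]

/-- Self-duality of permutation lattices. -/
def dot (S : Type) [Finite S] : (S → ℤ) ≃ₗ[ℤ] Dual ℤ (S → ℤ) :=
  letI := Fintype.ofFinite S
  letI := Classical.decEq S
  (Pi.basisFun ℤ S).toDualEquiv

theorem dot_apply (S : Type) [Fintype S] (p q : S → ℤ) : dot S p q = ∑ s, p s * q s := by
  classical
  rw [dot, Basis.toDualEquiv_apply]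
  conv_lhs => rw [← (Pi.basisFun ℤ S).sum_repr q]
  simp only [map_sum, map_smul, Basis.toDual_apply_left, Pi.basisFun_repr, smul_eq_mul]
  exact Finset.sum_congr rfl fun i _ => mul_comm _ _

theorem dot_equivariant (S : Type) [MulAction G S] [Finite S] :
    GLat.IsEquivariant (permRep G S) (permRep G S).dual (dot S).toLinearMap := by
  intro g p
  letI := Fintype.ofFinite S
  refine LinearMap.ext fun q => ?_
  show dot S (permRep G S g p) q = dot S p (permRep G S g⁻¹ q)
  rw [dot_apply, dot_apply, ← Equiv.sum_comp (MulAction.toPerm g) fun s => permRep G S g p s * q s]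
  simp [permRep_apply]

theorem isFlasque_permRep [Finite G] (S : Type) [MulAction G S] [Finite S] : GLat.IsFlasque (permRep G S) := by
  classical
  intro H m hm
  letI := Fintype.ofFinite H
  rw [finsum_eq_sum_of_fintype] at hm
  have h1 := isFlasque_dual _ (isCoflasque_permRep (G := G) S) H (dot S m) (by
    rw [finsum_eq_sum_of_fintype]
    have := congrArg (dot S) hm
    rw [map_sum, map_zero] at this
    refine (Finset.sum_congr rfl fun h _ => ?_).trans this
    exact (dot_equivariant S (h : G) m).symm)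
  have h2 := Submodule.mem_map_of_mem (f := (dot S).symm.toLinearMap) h1
  rw [LinearEquiv.coe_coe, LinearEquiv.symm_apply_apply, Submodule.map_span] at h2
  refine Submodule.span_mono ?_ h2
  rintro _ ⟨_, ⟨h, y, rfl⟩, rfl⟩
  refine ⟨h, (dot S).symm y, ?_⟩
  apply (dot S).injective
  rw [LinearEquiv.coe_coe, LinearEquiv.apply_symm_apply, map_sub, LinearEquiv.apply_symm_apply]
  exact (congrArg₂ _ ((dot_equivariant S (h : G) ((dot S).symm y)).trans
    (congrArg _ (LinearEquiv.apply_symm_apply _ y))) rfl).symm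

/-- The coflasque cover. -/
theorem exists_coflasque_cover [Finite G] {A : Type} [AddCommGroup A] [Module.Finite ℤ A]
    (ρ : Representation ℤ G A) :
    ∃ (S : Type) (_ : MulAction G S) (_ : Finite S) (π : (S → ℤ) →ₗ[ℤ] A)
      (hπ : GLat.IsEquivariant (permRep G S) ρ π), Function.Surjective π ∧
      GLat.IsCoflasque (kerRep (permRep G S) ρ π hπ) := by
  obtain ⟨S, i1, i2, π, hπ, hs, hl⟩ := exists_cover ρ
  exact ⟨S, i1, i2, π, hπ, hs, isCoflasque_kerRep _ _ _ hπ (isCoflasque_permRep S) hl⟩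

/-- The flasque resolution. -/
theorem exists_flasque_resolution [Finite G] {A : Type} [AddCommGroup A] [Module.Finite ℤ A] [Module.Free ℤ A]
    (ρ : Representation ℤ G A) :
    ∃ (S : Type) (_ : MulAction G S) (_ : Finite S) (F : Type) (_ : AddCommGroup F) (_ : Module.Finite ℤ F)
      (_ : Module.Free ℤ F) (τ : Representation ℤ G F) (i : A →ₗ[ℤ] S → ℤ) (π : (S → ℤ) →ₗ[ℤ] F),
      GLat.IsEquivariant ρ (permRep G S) i ∧ GLat.IsEquivariant (permRep G S) τ π ∧ Function.Injective i ∧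
      Function.Surjective π ∧ LinearMap.range i = LinearMap.ker π ∧ GLat.IsFlasque τ := by
  obtain ⟨S, i1, i2, π, hπ, hs, hco⟩ := exists_coflasque_cover ρ.dual
  let Q := LinearMap.ker π
  haveI : Module.Finite ℤ Q := Module.Finite.iff_fg.2 (IsNoetherian.noetherian _)
  let σ := kerRep (permRep G S) ρ.dual π hπ
  obtain ⟨s, hsec⟩ := LinearMap.exists_rightInverse_of_surjective π (LinearMap.range_eq_top.2 hs)
  let i : A →ₗ[ℤ] S → ℤ := (dot S).symm.toLinearMap ∘ₗ π.dualMap ∘ₗ Dual.eval ℤ A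
  let p : (S → ℤ) →ₗ[ℤ] Dual ℤ Q := Q.subtype.dualMap ∘ₗ (dot S).toLinearMap
  refine ⟨S, i1, i2, Dual ℤ Q, inferInstance, inferInstance, inferInstance, σ.dual, i, p, ?_, ?_, ?_, ?_, ?_,
    isFlasque_dual σ hco⟩
  · intro g a
    apply (dot S).injective
    refine Eq.trans ?_ (dot_equivariant S g (i a)).symm
    simp only [i, LinearMap.comp_apply, LinearEquiv.coe_coe, LinearEquiv.apply_symm_apply]
    refine LinearMap.ext fun x => ?_
    show π x (ρ g a) = π (permRep G S g⁻¹ x) a
    rw [hπ]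
    show π x (ρ g a) = π x (ρ g⁻¹⁻¹ a)
    rw [inv_inv]
  · intro g x
    exact congrArg Q.subtype.dualMap (dot_equivariant S g x)
  · refine (dot S).symm.injective.comp ?_
    intro a a' h
    exact (Module.bijective_dual_eval ℤ A).1 (LinearMap.dualMap_injective_of_surjective hs h)
  · intro φ
    have hmem : ∀ x, x - s (π x) ∈ Q := fun x => by
      rw [LinearMap.mem_ker, map_sub, sub_eq_zero]; exact (LinearMap.congr_fun hsec (π x)).symm
    let r : (S → ℤ) →ₗ[ℤ] Q := (LinearMap.id - s ∘ₗ π).codRestrict Q hmem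
    refine ⟨(dot S).symm (φ ∘ₗ r), LinearMap.ext fun x => ?_⟩
    show dot S ((dot S).symm (φ ∘ₗ r)) x.1 = φ x
    rw [LinearEquiv.apply_symm_apply]
    refine congrArg φ (Subtype.ext ?_)
    show x.1 - s (π x.1) = x.1
    rw [LinearMap.mem_ker.1 x.2, map_zero, sub_zero]
  · refine le_antisymm ?_ fun x hx => ?_
    · rintro _ ⟨a, rfl⟩
      refine LinearMap.mem_ker.2 (LinearMap.ext fun y => ?_)
      show dot S ((dot S).symm _) y.1 = 0
      rw [LinearEquiv.apply_symm_apply]
      show π y.1 a = 0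
      rw [LinearMap.mem_ker.1 y.2]; rfl
    · obtain ⟨a, ha⟩ := (Module.bijective_dual_eval ℤ A).2 (dot S x ∘ₗ s)
      refine ⟨a, ?_⟩
      apply (dot S).injective
      simp only [i, LinearMap.comp_apply, LinearEquiv.coe_coe, LinearEquiv.apply_symm_apply, ha]
      refine LinearMap.ext fun y => ?_
      have h1 := LinearMap.congr_fun (LinearMap.mem_ker.1 hx) (⟨y - s (π y), by
        rw [LinearMap.mem_ker, map_sub, sub_eq_zero]; exact (LinearMap.congr_fun hsec (π y)).symm⟩ : Q)
      change dot S x (y - s (π y)) = 0 at h1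
      rw [map_sub, sub_eq_zero] at h1
      exact h1.symm

/-- An extension of coflasque modules is coflasque. -/
theorem isCoflasque_of_ext {Q₁ Q Q₂ : Type} [AddCommGroup Q₁] [AddCommGroup Q] [AddCommGroup Q₂]
    (σ₁ : Representation ℤ G Q₁) (σ : Representation ℤ G Q) (σ₂ : Representation ℤ G Q₂)
    (i : Q₁ →ₗ[ℤ] Q) (p : Q →ₗ[ℤ] Q₂) (hi : GLat.IsEquivariant σ₁ σ i) (hp : GLat.IsEquivariant σ σ₂ p)
    (hinj : Function.Injective i) (hs : Function.Surjective p) (hex : LinearMap.range i = LinearMap.ker p)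
    (h₁ : GLat.IsCoflasque σ₁) (h₂ : GLat.IsCoflasque σ₂) : GLat.IsCoflasque σ := by
  intro H f hf
  obtain ⟨m₂, hm₂⟩ := h₂ H (fun h => p (f h)) fun a b => by rw [hf, map_add, hp]
  obtain ⟨m, rfl⟩ := hs m₂
  have hk : ∀ h, ∃ c, i c = f h - (σ (h : G) m - m) := fun h => by
    have : f h - (σ (h : G) m - m) ∈ LinearMap.ker p := by
      rw [LinearMap.mem_ker, map_sub, map_sub, hp, hm₂, sub_self]
    rwa [← hex] at this
  choose c hc using hk
  obtain ⟨m₁, hm₁⟩ := h₁ H c fun a b => hinj (by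
    rw [map_add, hi, hc, hc, hc, hf, map_sub, map_sub, Subgroup.coe_mul, map_mul, Module.End.mul_apply]
    abel)
  refine ⟨m + i m₁, fun a => ?_⟩
  have := hc a
  rw [hm₁, map_sub, hi] at this
  rw [map_add, ← sub_eq_zero, ← sub_eq_zero.2 this.symm]
  abel

/-- An extension of flasque modules is flasque. -/
theorem isFlasque_of_ext [Finite G] {F₁ F F₂ : Type} [AddCommGroup F₁] [AddCommGroup F] [AddCommGroup F₂]
    (σ₁ : Representation ℤ G F₁) (σ : Representation ℤ G F) (σ₂ : Representation ℤ G F₂)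
    (i : F₁ →ₗ[ℤ] F) (p : F →ₗ[ℤ] F₂) (hi : GLat.IsEquivariant σ₁ σ i) (hp : GLat.IsEquivariant σ σ₂ p)
    (hinj : Function.Injective i) (hs : Function.Surjective p) (hex : LinearMap.range i = LinearMap.ker p)
    (h₁ : GLat.IsFlasque σ₁) (h₂ : GLat.IsFlasque σ₂) : GLat.IsFlasque σ := by
  intro H m hm
  letI := Fintype.ofFinite H
  rw [finsum_eq_sum_of_fintype] at hm
  let I : Submodule ℤ F := Submodule.span ℤ {x | ∃ (h : H) (y : F), x = σ (h : G) y - y}
  have hpm := h₂ H (p m) (by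
    rw [finsum_eq_sum_of_fintype]
    refine (Finset.sum_congr rfl (g := fun h : H => p (σ (h : G) m)) fun h _ => (hp (h : G) m).symm).trans ?_
    rw [← map_sum, hm, map_zero])
  have hle : Submodule.span ℤ {x | ∃ (h : H) (y : F₂), x = σ₂ (h : G) y - y} ≤ I.map p :=
    Submodule.span_le.2 (by
      rintro _ ⟨h, y, rfl⟩
      obtain ⟨y', rfl⟩ := hs y
      exact ⟨σ (h : G) y' - y', Submodule.subset_span ⟨h, y', rfl⟩, by rw [map_sub, hp]⟩)
  obtain ⟨z, hz, hzp⟩ := hle hpm
  obtain ⟨q, hq⟩ : m - z ∈ LinearMap.range i := by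
    rw [hex, LinearMap.mem_ker, map_sub, hzp, sub_self]
  have hz0 : I ≤ LinearMap.ker (∑ h : H, σ (h : G)) := Submodule.span_le.2 (by
    rintro _ ⟨a, y, rfl⟩
    simp only [SetLike.mem_coe, LinearMap.mem_ker, map_sub, LinearMap.sum_apply, sub_eq_zero]
    refine (Finset.sum_congr rfl fun h _ => ?_).trans (Equiv.sum_comp (Equiv.mulRight a) fun h => σ (h : G) y)
    simp [Equiv.coe_mulRight])
  have hq' := h₁ H q (hinj (by
    rw [finsum_eq_sum_of_fintype, map_sum, map_zero]
    simp only [hi _ q, hq, map_sub]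
    have := LinearMap.mem_ker.1 (hz0 hz)
    rw [LinearMap.sum_apply] at this
    rw [Finset.sum_sub_distrib, hm, this, sub_self]))
  have hle' : (Submodule.span ℤ {x | ∃ (h : H) (y : F₁), x = σ₁ (h : G) y - y}).map i ≤ I := by
    rw [Submodule.map_span]
    refine Submodule.span_mono ?_
    rintro _ ⟨_, ⟨h, y, rfl⟩, rfl⟩
    exact ⟨h, i y, by rw [map_sub, hi]⟩
  have := I.add_mem (hle' (Submodule.mem_map_of_mem hq')) hz
  rwa [hq, sub_add_cancel] at this

end Groth.L28.GLat
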